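import Cfsg.Prelude.Def_Characters
import Mathlib.RepresentationTheory.Character
import Mathlib.LinearAlgebra.FiniteDimensional.Lemmas

/-!
# Invariants of subgroups and inner products with the principal character (owner: helper78)
-/

set_option autoImplicit false
set_option linter.style.haveILetI false

namespace Cfsg.Agent.H78

open scoped ComplexConjugate
open Cfsg

universe u v

variable {G : Type u} [Group G]

/-- The subspace of vectors fixed by a subgroup. -/
noncomputable def fixedBySub {V : Type v} [AddCommGroup V] [Module ℂ V] (ρ : Representation ℂ G V)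
    (H : Subgroup G) : Submodule ℂ V := Representation.invariants (ρ.comp H.subtype : Representation ℂ H V)

theorem mem_fixedBySub {V : Type v} [AddCommGroup V] [Module ℂ V] (ρ : Representation ℂ G V)
    (H : Subgroup G) (v : V) : v ∈ fixedBySub ρ H ↔ ∀ h ∈ H, ρ h v = v := by
  constructor
  · intro hv h hh
    exact hv ⟨h, hh⟩
  · intro hv h
    exact hv h h.2

theorem classInner_restrict_one {V : Type v} [AddCommGroup V] [Module ℂ V] [FiniteDimensional ℂ V]
    (ρ : Representation ℂ G V) (H : Subgroup G) [Fintype H] :
    classInner (fun x : H => ρ.character x) (fun _ => 1) = (Module.finrank ℂ (fixedBySub ρ H) : ℂ) := by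
  have hH : (Nat.card H : ℂ) ≠ 0 := by
    have : Nat.card H ≠ 0 := Nat.card_pos.ne'
    exact_mod_cast this
  letI : Invertible (Nat.card H : ℂ) := invertibleOfNonzero hH
  have := Representation.card_inv_mul_sum_char_eq_finrank (ρ.comp H.subtype : Representation ℂ H V)
  simp only [classInner, map_one, mul_one]
  exact this

theorem fixedBySub_antitone {V : Type v} [AddCommGroup V] [Module ℂ V] (ρ : Representation ℂ G V)
    {H K : Subgroup G} (h : H ≤ K) : fixedBySub ρ K ≤ fixedBySub ρ H := by
  intro v hv
  rw [mem_fixedBySub] at *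
  exact fun x hx => hv x (h hx)

theorem fixedBySub_sup {V : Type v} [AddCommGroup V] [Module ℂ V] (ρ : Representation ℂ G V)
    (H K : Subgroup G) : fixedBySub ρ H ⊓ fixedBySub ρ K = fixedBySub ρ (H ⊔ K) := by
  apply le_antisymm
  · intro v hv
    obtain ⟨h1, h2⟩ := hv
    rw [SetLike.mem_coe, mem_fixedBySub] at *
    intro x hx
    let S : Subgroup G :=
      { carrier := {x | ρ x v = v}
        mul_mem' := by
          intro a b ha hb
          change ρ (a * b) v = v
          rw [map_mul, Module.End.mul_apply, hb, ha]
        one_mem' := by simp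
        inv_mem' := by
          intro a ha
          change ρ a⁻¹ v = v
          have ha' : ρ a v = v := ha
          calc ρ a⁻¹ v = ρ a⁻¹ (ρ a v) := by rw [ha']
            _ = v := by rw [← Module.End.mul_apply, ← map_mul]; simp }
    have : H ⊔ K ≤ S := sup_le (fun x hx => h1 x hx) (fun x hx => h2 x hx)
    exact this hx
  · exact le_inf (fixedBySub_antitone ρ le_sup_left) (fixedBySub_antitone ρ le_sup_right)

/-- the invariants of an irreducible representation with non-principal character vanish -/
theorem fixedBySub_top_eq_bot {V : Type v} [AddCommGroup V] [Module ℂ V] [FiniteDimensional ℂ V]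
    (ρ : Representation ℂ G V) (hρ : ρ.IsIrreducible) (h1 : ρ.character ≠ fun _ => 1) :
    fixedBySub ρ ⊤ = ⊥ := by
  let U : Subrepresentation ρ := ⟨fixedBySub ρ ⊤, by
    intro g v hv
    rw [mem_fixedBySub] at *
    intro h _
    rw [hv g trivial]
    exact hv h trivial⟩
  rcases hρ.eq_bot_or_eq_top U with h | h
  · exact congrArg Subrepresentation.toSubmodule h
  · exfalso
    have hU : fixedBySub ρ ⊤ = ⊤ := congrArg Subrepresentation.toSubmodule h
    have htriv : ∀ g v, ρ g v = v := by
      intro g v
      have : v ∈ fixedBySub ρ ⊤ := by rw [hU]; trivial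
      rw [mem_fixedBySub] at this
      exact this g trivial
    -- dimension one
    obtain ⟨v, hv⟩ : ∃ v : V, v ≠ 0 := by
      by_contra hcon
      push Not at hcon
      have hbt : (⊥ : Subrepresentation ρ) = ⊤ := by
        apply Subrepresentation.toSubmodule_injective
        change (⊥ : Submodule ℂ V) = ⊤
        ext v; simp [hcon v]
      exact bot_ne_top hbt
    let W : Subrepresentation ρ := ⟨ℂ ∙ v, by
      intro g w hw
      rw [htriv g w]; exact hw⟩
    have hW : W = ⊤ := by
      rcases hρ.eq_bot_or_eq_top W with h' | h'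
      · exfalso
        have : (ℂ ∙ v) = (⊥ : Submodule ℂ V) := congrArg Subrepresentation.toSubmodule h'
        rw [Submodule.span_singleton_eq_bot] at this
        exact hv this
      · exact h'
    have hW' : (ℂ ∙ v) = (⊤ : Submodule ℂ V) := congrArg Subrepresentation.toSubmodule hW
    have hdim : Module.finrank ℂ V = 1 := by
      rw [← finrank_top ℂ V, ← hW', finrank_span_singleton hv]
    apply h1
    funext g
    have : ρ g = LinearMap.id := by ext w; simpa using htriv g w
    simp only [Representation.character, this]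
    rw [LinearMap.trace_id, hdim]; simp

/-- Brauer's generation criterion (no simplicity needed). -/
theorem brauer_generation [Fintype G] (H₁ H₂ : Subgroup G)
    [Fintype H₁] [Fintype H₂] [Fintype ↥(H₁ ⊓ H₂)] (χ : G → ℂ) (hχ : IsIrrCharacter G χ)
    (hχ1 : χ ≠ fun _ => 1)
    (hlt : (classInner (fun x : ↥(H₁ ⊓ H₂) => χ x) (fun _ => 1)).re <
      (classInner (fun x : H₁ => χ x) (fun _ => 1)).re +
      (classInner (fun x : H₂ => χ x) (fun _ => 1)).re) : H₁ ⊔ H₂ ≠ ⊤ := by
  intro htop
  obtain ⟨n, ρ, hρ, rfl⟩ := hχ
  rw [classInner_restrict_one, classInner_restrict_one, classInner_restrict_one] at hlt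
  simp only [Complex.natCast_re] at hlt
  have hlt' : Module.finrank ℂ (fixedBySub ρ (H₁ ⊓ H₂)) <
      Module.finrank ℂ (fixedBySub ρ H₁) + Module.finrank ℂ (fixedBySub ρ H₂) := by
    exact_mod_cast hlt
  have h1 := Submodule.finrank_sup_add_finrank_inf_eq (fixedBySub ρ H₁) (fixedBySub ρ H₂)
  rw [fixedBySub_sup, htop, fixedBySub_top_eq_bot ρ hρ hχ1, finrank_bot] at h1
  have h2 : fixedBySub ρ H₁ ⊔ fixedBySub ρ H₂ ≤ fixedBySub ρ (H₁ ⊓ H₂) :=
    sup_le (fixedBySub_antitone ρ inf_le_left) (fixedBySub_antitone ρ inf_le_right)
  have h3 := Submodule.finrank_mono h2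
  omega

end Cfsg.Agent.H78
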